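import Mathlib
import Cfsg.Agent.Lib.Orth.Std
import Cfsg.Agent.Lib.Elusive.QuadCount

/-!
# Counting vectors of norm one and the sign of a semiregular permutation
-/

set_option autoImplicit false
set_option linter.unusedSectionVars false
set_option linter.unusedSimpArgs false
set_option linter.style.haveILetI false

namespace Cfsg.Agent.Lib.BCSpec.Count

open Module QuadraticMap Cfsg.Agent.Lib.Elusive.QuadCount

section perm

open Equiv.Perm

/-- All non-trivial cycles of a permutation have length `ℓ`. -/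
theorem cycleType_eq {α : Type*} [Fintype α] [DecidableEq α] {σ : Equiv.Perm α} {ℓ : ℕ} (hσ : σ ^ ℓ = 1)
    (hfree : ∀ x, σ x ≠ x → ∀ k, (σ ^ k) x = x → ℓ ∣ k) : ∀ n ∈ σ.cycleType, n = ℓ := by
  intro n hn
  obtain ⟨c, τ, rfl, hd, hc, hn⟩ := mem_cycleType_iff.mp hn
  have hord : orderOf c = n := by rw [hc.orderOf, hn]
  have h1 : n ∣ ℓ := by
    rw [← hord]
    apply orderOf_dvd_of_pow_eq_one
    rw [hd.commute.mul_pow] at hσ
    exact ((hd.pow_disjoint_pow ℓ ℓ).mul_eq_one_iff.mp hσ).1
  obtain ⟨x, hx⟩ : ∃ x, x ∈ c.support := by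
    have hne : c.support.Nonempty := by
      rw [Finset.nonempty_iff_ne_empty]
      intro h
      exact hc.ne_one (Equiv.Perm.support_eq_empty_iff.mp h)
    exact hne
  have hτx : τ x = x := (hd x).resolve_left (Equiv.Perm.mem_support.mp hx)
  have h2 : (c * τ) x ≠ x := by
    rw [Equiv.Perm.mul_apply, hτx]
    exact Equiv.Perm.mem_support.mp hx
  have h3 : ((c * τ) ^ n) x = x := by
    rw [hd.commute.mul_pow, ← hord, pow_orderOf_eq_one, one_mul]
    have : ∀ k : ℕ, (τ ^ k) x = x := by
      intro k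
      induction k with
      | zero => simp
      | succ k ih => rw [pow_succ', Equiv.Perm.mul_apply, ih, hτx]
    exact this _
  exact Nat.dvd_antisymm h1 (hfree x h2 n h3)

/-- The sign of a permutation all of whose non-trivial cycles have length `ℓ`. -/
theorem sign_of_free {α : Type*} [Fintype α] [DecidableEq α] {σ : Equiv.Perm α} {ℓ : ℕ} (hσ : σ ^ ℓ = 1)
    (hfree : ∀ x, σ x ≠ x → ∀ k, (σ ^ k) x = x → ℓ ∣ k) :
    ∃ c : ℕ, σ.support.card = c * ℓ ∧ Equiv.Perm.sign σ = (-1) ^ (c * ℓ + c) := by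
  have h1 := cycleType_eq hσ hfree
  have h2 : σ.cycleType = Multiset.replicate (Multiset.card σ.cycleType) ℓ := Multiset.eq_replicate.mpr ⟨rfl, h1⟩
  refine ⟨Multiset.card σ.cycleType, ?_, ?_⟩
  · rw [← Equiv.Perm.sum_cycleType]
    conv_lhs => rw [h2]
    simp
  · rw [Equiv.Perm.sign_of_cycleType]
    congr 2
    conv_lhs => rw [h2]
    simp

end perm

variable {F : Type*} [Field F] [Fintype F] {q : ℕ}

/-- The number of solutions of `a x² = 1` is `0` or `2`. -/
theorem card_sq (h2 : (2 : F) ≠ 0) (a : F) : Nat.card {x : F // a * x ^ 2 = 1} = 0 ∨ Nat.card {x : F // a * x ^ 2 = 1} = 2 := by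
  classical
  by_cases h : ∃ x : F, a * x ^ 2 = 1
  · right
    obtain ⟨x₀, hx₀⟩ := h
    have hx0 : x₀ ≠ 0 := by
      rintro rfl
      simp at hx₀
    have ha : a ≠ 0 := by
      rintro rfl
      simp at hx₀
    have hne : x₀ ≠ -x₀ := by
      intro h3
      have : (2 : F) * x₀ = 0 := by linear_combination h3
      exact (mul_eq_zero.mp this).elim h2 hx0
    have hset : {x : F | a * x ^ 2 = 1} = {x₀, -x₀} := by
      ext x
      simp only [Set.mem_ofPred_eq, Set.mem_insert_iff, Set.mem_singleton_iff]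
      constructor
      · intro hx
        have h3 : a * ((x - x₀) * (x + x₀)) = 0 := by linear_combination hx - hx₀
        rcases (mul_eq_zero.mp h3).resolve_left ha |> mul_eq_zero.mp with h4 | h4
        · exact Or.inl (sub_eq_zero.mp h4)
        · exact Or.inr (eq_neg_of_add_eq_zero_left h4)
      · rintro (rfl | rfl)
        · exact hx₀
        · rw [neg_sq]
          exact hx₀
    have h5 : Nat.card {x : F // a * x ^ 2 = 1} = Nat.card ({x₀, -x₀} : Set F) := by
      rw [← hset]
      rfl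
    rw [h5, _root_.Nat.card_coe_set_eq]
    exact Set.ncard_pair hne
  · left
    haveI : IsEmpty {x : F // a * x ^ 2 = 1} := ⟨fun x => h ⟨x.1, x.2⟩⟩
    exact Nat.card_of_isEmpty

/-- Count for the form `a x² + Σ xᵢ yᵢ`. -/
theorem card_aform (hq : Fintype.card F = q) (a : F) (k : ℕ) :
    Nat.card {v : Unit ⊕ (Fin k ⊕ Fin k) → F // a * (v (Sum.inl ())) ^ 2 + Cfsg.quadFormPlus k F (fun i => v (Sum.inr i)) = 1} =
      Nat.card {x : F // a * x ^ 2 = 1} * q ^ k + q * ((q ^ k - 1) * q ^ (k - 1)) := by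
  classical
  let e : {v : Unit ⊕ (Fin k ⊕ Fin k) → F // a * (v (Sum.inl ())) ^ 2 + Cfsg.quadFormPlus k F (fun i => v (Sum.inr i)) = 1} ≃
      Σ x : F, {w : Fin k ⊕ Fin k → F // Cfsg.quadFormPlus k F w = 1 - a * x ^ 2} :=
    { toFun := fun v => ⟨v.1 (Sum.inl ()), ⟨fun i => v.1 (Sum.inr i), by
        have := v.2
        linear_combination this⟩⟩
      invFun := fun s => ⟨Sum.elim (fun _ => s.1) s.2.1, by
        have := s.2.2
        simp only [Sum.elim_inl, Sum.elim_inr]
        have h3 : Cfsg.quadFormPlus k F (fun i => s.2.1 i) = 1 - a * s.1 ^ 2 := this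
        rw [h3]
        ring⟩
      left_inv := fun v => by
        apply Subtype.ext
        funext i
        rcases i with i | i
        · rfl
        · rfl
      right_inv := fun s => rfl }
  rw [Nat.card_congr e, Nat.card_sigma]
  simp only [card_plus_eq hq]
  rw [Finset.sum_add_distrib, Finset.sum_const, Finset.card_univ, hq, smul_eq_mul]
  congr 1
  rw [← Finset.sum_filter, Finset.sum_const, smul_eq_mul, Nat.card_eq_fintype_card, Fintype.card_subtype]
  congr 2
  ext x
  simp only [Finset.mem_filter, Finset.mem_univ, true_and]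
  exact sub_eq_zero.trans ⟨fun h => h.symm, fun h => h.symm⟩

theorem arith_two {y : ℕ} (hy : 1 ≤ y) : 2 * y + (y - 1) * y = y * y + y := by
  obtain ⟨z, rfl⟩ : ∃ z, y = z + 1 := ⟨y - 1, by omega⟩
  simp only [Nat.add_sub_cancel]
  ring

theorem q_mul {q k : ℕ} (hk : 1 ≤ k) : q * ((q ^ k - 1) * q ^ (k - 1)) = (q ^ k - 1) * q ^ k := by
  obtain ⟨j, rfl⟩ : ∃ j, k = j + 1 := ⟨k - 1, by omega⟩
  simp only [Nat.add_sub_cancel]
  rw [pow_succ q j]
  ring

/-- Vectors of norm one for the standard odd form. -/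
theorem card_odd (hq : Fintype.card F = q) (h2 : (2 : F) ≠ 0) {n : ℕ} (hn : 1 ≤ n) :
    Nat.card {v : Unit ⊕ (Fin n ⊕ Fin n) → F // Cfsg.quadFormOdd n F v = 1} = q ^ n * q ^ n + q ^ n := by
  have h1 := card_aform hq (1 : F) n
  have h3 : ∀ v : Unit ⊕ (Fin n ⊕ Fin n) → F,
      (1 : F) * (v (Sum.inl ())) ^ 2 + Cfsg.quadFormPlus n F (fun i => v (Sum.inr i)) = Cfsg.quadFormOdd n F v := by
    intro v
    rw [one_mul]
    rfl
  simp only [h3] at h1
  rw [h1]
  have hs : Nat.card {x : F // (1 : F) * x ^ 2 = 1} = 2 := by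
    rcases card_sq h2 (1 : F) with h | h
    · exfalso
      have h5 := (Nat.card_eq_zero.mp h)
      rcases h5 with h5 | h5
      · exact h5.false ⟨1, by simp⟩
      · exact (not_finite_iff_infinite.mpr h5) inferInstance
    · exact h
  rw [hs, q_mul hn]
  have hq1 : 1 ≤ q ^ n := by
    have : 0 < q := by
      rw [← hq]
      exact Fintype.card_pos
    exact Nat.one_le_pow _ _ this
  exact arith_two hq1

/-- Vectors of norm one in a three-dimensional non-degenerate space. -/
theorem card_three (hq : Fintype.card F = q) (h2 : (2 : F) ≠ 0) {V : Type*} [AddCommGroup V] [Module F V]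
    [FiniteDimensional F V] (Q : QuadraticForm F V) (hQ : (polarBilin Q).Nondegenerate) (hV : finrank F V = 3) :
    Nat.card {w : V // Q w = 1} = q * q + q ∨ Nat.card {w : V // Q w = 1} = q * q - q := by
  classical
  obtain ⟨b, hb0, hb1, hb2, hb3, hb4⟩ := Cfsg.Agent.Lib.Orth.Std.exists_basis_odd (Q := Q) hQ (m := 1) (by omega)
  set a := Q (b (Sum.inl ())) with ha
  set d := b (Sum.inl ()) with hd
  set x := b (Sum.inr (Sum.inl 0)) with hx
  set y := b (Sum.inr (Sum.inr 0)) with hy
  have hform : ∀ c : Unit ⊕ (Fin 1 ⊕ Fin 1) → F, Q (b.equivFun.symm c) =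
      a * (c (Sum.inl ())) ^ 2 + Cfsg.quadFormPlus 1 F (fun i => c (Sum.inr i)) := by
    intro c
    have h3 : b.equivFun.symm c = c (Sum.inl ()) • d + (c (Sum.inr (Sum.inl 0)) • x + c (Sum.inr (Sum.inr 0)) • y) := by
      rw [Basis.equivFun_symm_apply, Fintype.sum_sum_type, Fintype.sum_sum_type]
      simp [hd, hx, hy]
    rw [h3, QuadraticMap.map_add Q, QuadraticMap.map_add Q, QuadraticMap.map_smul, QuadraticMap.map_smul,
      QuadraticMap.map_smul, (hb2 0).1, (hb2 0).2, polar_add_right, polar_smul_left, polar_smul_left, polar_smul_right,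
      polar_smul_right, polar_smul_left, polar_smul_right, (hb1 0).1, (hb1 0).2, hb3 0 0]
    simp [Cfsg.quadFormPlus, ha, hd]
    ring
  let e : {w : V // Q w = 1} ≃ {v : Unit ⊕ (Fin 1 ⊕ Fin 1) → F // a * (v (Sum.inl ())) ^ 2 + Cfsg.quadFormPlus 1 F (fun i => v (Sum.inr i)) = 1} :=
    (b.equivFun.toEquiv).subtypeEquiv (fun w => by
      rw [← hform]
      simp)
  rw [Nat.card_congr e, card_aform hq a 1]
  simp only [pow_one, Nat.sub_self, pow_zero, mul_one]
  rcases card_sq h2 a with h | h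
  · right
    rw [h]
    obtain ⟨z, rfl⟩ : ∃ z, q = z + 1 := ⟨q - 1, by
      have : 0 < q := by
        rw [← hq]
        exact Fintype.card_pos
      omega⟩
    simp only [Nat.add_sub_cancel]
    have : (z + 1) * (z + 1) - (z + 1) = (z + 1) * z := by
      rw [Nat.mul_succ]
      omega
    rw [this]
    ring
  · left
    rw [h]
    obtain ⟨z, rfl⟩ : ∃ z, q = z + 1 := ⟨q - 1, by
      have : 0 < q := by
        rw [← hq]
        exact Fintype.card_pos
      omega⟩
    simp only [Nat.add_sub_cancel]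
    ring

end Cfsg.Agent.Lib.BCSpec.Count
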